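import Groth.Agent.FF.Ext
import Groth.Agent.FF.RR
import Groth.Agent.FF.RiemannAny
import Groth.Agent.FF.Small

/-!
# A function field of genus at least two has at most one subfield of index two and genus zero

Any base field, any characteristic; the genus zero fields need not be rational.
-/

set_option autoImplicit false
set_option linter.unusedSectionVars false
set_option linter.style.haveILetI false

open FunFld WithZero IntermediateField

namespace Groth.Agent.FFTwoSub

open Groth.Agent.FF

section poly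

variable {k K : Type*} [Field k] [Field K] [Algebra k K]

lemma val_aeval_of_one_lt (P : Place k K) {a : K} (ha : 1 < P.1 a) :
    ∀ (n : ℕ) (p : Polynomial k), p.natDegree = n → p ≠ 0 → P.1 (Polynomial.aeval a p) = P.1 a ^ n
  | 0, p, hn, hp => by
    rw [Polynomial.eq_C_of_natDegree_eq_zero hn, Polynomial.aeval_C, pow_zero]
    refine val_const P fun h => hp ?_
    rw [Polynomial.eq_C_of_natDegree_eq_zero hn, h, map_zero]
  | n + 1, p, hn, hp => by
    have hd : p.divX.natDegree = n := by rw [Polynomial.natDegree_divX_eq_natDegree_tsub_one, hn]; rfl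
    have hd0 : p.divX ≠ 0 := fun h => by
      rw [Polynomial.divX_eq_zero_iff] at h
      rw [h, Polynomial.natDegree_C] at hn
      omega
    have ih := val_aeval_of_one_lt P ha n p.divX hd hd0
    conv_lhs => rw [← Polynomial.divX_mul_X_add p, map_add, map_mul, Polynomial.aeval_X, Polynomial.aeval_C]
    rw [Valuation.map_add_eq_of_lt_left, map_mul, ih, pow_succ]
    rw [map_mul, ih, ← pow_succ]
    exact (val_const_le P _).trans_lt (one_lt_pow₀ ha n.succ_ne_zero)

end poly

section rat

variable {k F : Type*} [Field k] [Field F] [Algebra k F] (hF : IsFunctionField k F)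
include hF

/-- The pole divisor of a nonconstant function. -/
lemma deg_poles {a : F} (ha : Transcendental k a) :
    (zeroDiv (k := k) a⁻¹).deg = Module.finrank k⟮a⟯ F := by
  have h : k⟮a⁻¹⟯ = k⟮a⟯ := by
    apply le_antisymm <;> rw [adjoin_simple_le_iff]
    · exact inv_mem (mem_adjoin_simple_self k a)
    · have := inv_mem (mem_adjoin_simple_self k a⁻¹)
      rwa [inv_inv] at this
  rw [deg_zeroDiv hF.1 (fun e => ha (by simpa using e.inv)), h]

lemma poles_apply (a : F) (Q : Place k F) : zeroDiv (k := k) a⁻¹ Q = max (-Q.ord a) 0 := by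
  rw [zeroDiv, Finsupp.sup_apply, div_apply hF.1, ord_inv]
  rfl

lemma val_le_exp_poles (a : F) (Q : Place k F) : Q.1 a ≤ exp (zeroDiv (k := k) a⁻¹ Q) := by
  rcases eq_or_ne a 0 with rfl | ha
  · rw [map_zero]; exact zero_le
  rw [val_eq_exp_ord Q ha, exp_le_exp, poles_apply hF]
  omega

lemma transcendental_of_notMem' {a : F} (ha : a ∉ Set.range (algebraMap k F)) : Transcendental k a :=
  fun h => ha (hF.2 a h)

lemma two_le_index (hrat : ∀ a : F, Transcendental k a → Module.finrank k⟮a⟯ F ≠ 1) {a : F}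
    (ha : Transcendental k a) : 2 ≤ Module.finrank k⟮a⟯ F := by
  haveI := finite_adjoin hF.1 ha
  have : 0 < Module.finrank k⟮a⟯ F := Module.finrank_pos
  have := hrat a ha
  omega

lemma deg_smul_nat (m : ℕ) (D : Divisor k F) : ((m : ℤ) • D).deg = m * D.deg := by
  induction m with
  | zero => simp [Divisor.deg]
  | succ m ih => push_cast; rw [add_smul, one_smul, deg_add, ih]; ring

variable (hg : genus k F = 0)
include hg

/-- An effective divisor of degree two with its three dimensional space. -/
lemma exists_two : ∃ A : Divisor k F, 0 ≤ A ∧ A.deg = 2 ∧ ell A = 3 := by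
  obtain ⟨C, hC⟩ := exists_canonical hF
  have hd : (-C).deg = 2 := by
    have h0 := deg_sub (k := k) (K := F) (0 : Divisor k F) C
    rw [zero_sub, deg_canonical hF hC, hg] at h0
    rw [h0]; simp [Divisor.deg]
  have hl := ell_eq_of_deg_ge hF (D := -C) (by rw [hd, hg]; norm_num)
  rw [hd, hg] at hl
  obtain ⟨z, hz0, hz⟩ := exists_nonneg_equiv hF (D := -C) (by omega)
  refine ⟨-C + FunFld.div k z, hz, by rw [deg_add, hd, deg_div hF]; norm_num, ?_⟩
  rw [ell_add_div hF hz0]
  omega

/-- In a genus zero field without rational generator a three dimensional space of a divisor of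
degree two generates. -/
lemma exists_notMem {S : IntermediateField k F} (hS : S ≠ ⊤)
    (hrat : ∀ a : F, Transcendental k a → Module.finrank k⟮a⟯ F ≠ 1)
    {A : Divisor k F} (hA : 0 ≤ A) (hAd : A.deg = 2) (hAl : ell A = 3) : ∃ z ∈ L A, z ∉ S := by
  classical
  by_contra hall
  push Not at hall
  haveI := finiteDimensional_L hF.1 A
  obtain ⟨a, ha, ha'⟩ : ∃ a ∈ L A, a ∉ Submodule.span k {(1 : F)} := by
    by_contra! h
    have h1 : L A ≤ Submodule.span k {(1 : F)} := fun z hz => h z hz
    have := Submodule.finrank_mono h1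
    rw [finrank_span_singleton one_ne_zero] at this
    change ell A ≤ 1 at this
    omega
  have hat : Transcendental k a := transcendental_of_notMem' hF fun ⟨c, hc⟩ =>
    ha' (hc ▸ Submodule.mem_span_singleton.2 ⟨c, by rw [Algebra.algebraMap_eq_smul_one]⟩)
  have hpole : zeroDiv (k := k) a⁻¹ = A := by
    have hle : zeroDiv (k := k) a⁻¹ ≤ A := fun Q => by
      rw [poles_apply hF]
      have ha0 : a ≠ 0 := fun h => hat (h ▸ isAlgebraic_zero)
      have h1 := ha Q
      rw [val_le_exp_iff Q ha0] at h1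
      have h2 : 0 ≤ A Q := hA Q
      omega
    have h0 : 0 ≤ A - zeroDiv (k := k) a⁻¹ := sub_nonneg.2 hle
    have h1 := deg_mono hle
    have h2 := two_le_index hF hrat hat
    have h3 := deg_poles hF hat
    have := eq_zero_of_nonneg_of_deg hF h0 (by rw [deg_sub]; omega)
    exact (sub_eq_zero.1 this).symm
  haveI := finite_adjoin hF.1 hat
  have htwo : Module.finrank k⟮a⟯ F = 2 := by
    have h2 := two_le_index hF hrat hat
    have h3 := deg_poles hF hat
    rw [hpole, hAd] at h3
    omega
  have hSa : S = k⟮a⟯ := by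
    have hle : k⟮a⟯ ≤ S := adjoin_simple_le_iff.2 (hall a ha)
    have hsimp : IsSimpleOrder (IntermediateField k⟮a⟯ F) :=
      IntermediateField.isSimpleOrder_of_finrank_prime _ F (by rw [htwo]; exact Nat.prime_two)
    rcases eq_bot_or_eq_top (IntermediateField.extendScalars hle) with h | h
    · refine le_antisymm (fun z hz => ?_) hle
      have : z ∈ IntermediateField.extendScalars hle := hz
      rw [h, IntermediateField.mem_bot] at this
      obtain ⟨w, rfl⟩ := this
      exact w.2
    · refine absurd (eq_top_iff.2 fun z _ => ?_) hS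
      have : z ∈ IntermediateField.extendScalars hle := h ▸ IntermediateField.mem_top
      exact this
  have hspan : L A ≤ Submodule.span k (Set.range ![(1 : F), a]) := by
    intro b hb
    have hbm : b ∈ k⟮a⟯ := hSa ▸ hall b hb
    obtain ⟨r, s, hbrs⟩ := (IntermediateField.mem_adjoin_simple_iff k b).1 hbm
    by_cases hb0 : b = 0
    · rw [hb0]; exact Submodule.zero_mem _
    have hinj : Function.Injective (Polynomial.aeval (R := k) a) := transcendental_iff_injective.1 hat
    have hs0 : s ≠ 0 := fun h => hb0 (by rw [hbrs, h, map_zero, div_zero])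
    obtain ⟨r', s', c, hco, rfl, rfl⟩ := UniqueFactorizationMonoid.exists_reduced_factors' r s hs0
    have hc0 : c ≠ 0 := left_ne_zero_of_mul hs0
    have hs'0 : s' ≠ 0 := right_ne_zero_of_mul hs0
    have hne : Polynomial.aeval a s' ≠ 0 := (map_ne_zero_iff _ hinj).2 hs'0
    have hbe : b * Polynomial.aeval a s' = Polynomial.aeval a r' := by
      rw [hbrs, map_mul, map_mul, mul_div_mul_left _ _ ((map_ne_zero_iff _ hinj).2 hc0),
        div_mul_cancel₀ _ hne]
    have hcop : IsCoprime r' s' := hco.isCoprime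
    have hs'd : s'.natDegree = 0 := by
      by_contra hn
      have hst : Transcendental k (Polynomial.aeval a s') := Transcendental.aeval hat s' hn
        (mem_nonZeroDivisors_iff_ne_zero.2 (Polynomial.leadingCoeff_ne_zero.2 hs'0))
      obtain ⟨Q, hQ⟩ : ∃ Q : Place k F, 0 < zeroDiv (k := k) (Polynomial.aeval a s') Q := by
        by_contra! h
        have h1 : zeroDiv (k := k) (Polynomial.aeval a s') ≤ 0 := fun Q => h Q
        have h2 := deg_mono h1
        rw [deg_zeroDiv hF.1 hst] at h2
        haveI := finite_adjoin hF.1 hst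
        have h3 : 0 < Module.finrank k⟮Polynomial.aeval a s'⟯ F := Module.finrank_pos
        simp [Divisor.deg] at h2
        omega
      have hQ' : Q.1 (Polynomial.aeval a s') < 1 := by
        rw [val_lt_one_iff Q hne]
        rw [zeroDiv, Finsupp.sup_apply, div_apply hF.1] at hQ
        simp at hQ
        exact hQ
      have hva : Q.1 a ≤ 1 := by
        by_contra hva
        rw [val_aeval_of_one_lt Q (not_le.1 hva) _ s' rfl hs'0] at hQ'
        exact (not_lt.2 (one_le_pow₀ (not_le.1 hva).le)) hQ'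
      have hint : ∀ p : Polynomial k, Q.1 (Polynomial.aeval a p) ≤ 1 := fun p => by
        induction p using Polynomial.induction_on' with
        | add p q hp hq => rw [map_add]; exact Valuation.map_add_le Q.1 hp hq
        | monomial n c =>
          rw [Polynomial.aeval_monomial, map_mul, map_pow]
          exact mul_le_one' (val_const_le Q c) (pow_le_one' hva n)
      obtain ⟨u, v, huv⟩ := hcop
      have hr1 : Q.1 (Polynomial.aeval a r') = 1 := by
        refine le_antisymm (hint r') ?_
        by_contra hlt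
        have := congrArg (fun p => Q.1 (Polynomial.aeval a p)) huv
        simp only [map_add, map_mul, map_one] at this
        have h1 : Q.1 (Polynomial.aeval a u * Polynomial.aeval a r' +
            Polynomial.aeval a v * Polynomial.aeval a s') < 1 := by
          refine Valuation.map_add_lt Q.1 ?_ ?_
          · rw [map_mul]; exact (mul_le_mul' (hint u) le_rfl).trans_lt (by rw [one_mul]; exact not_le.1 hlt)
          · rw [map_mul]; exact (mul_le_mul' (hint v) le_rfl).trans_lt (by rw [one_mul]; exact hQ')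
        exact absurd this h1.ne
      have hb1 : Q.1 b ≤ 1 := by
        refine (hb Q).trans ?_
        rw [← exp_zero, exp_le_exp, ← hpole, poles_apply hF]
        have ha0 : a ≠ 0 := fun h => hat (h ▸ isAlgebraic_zero)
        rw [val_le_one_iff] at hva
        omega
      have := congrArg Q.1 hbe
      rw [map_mul, hr1] at this
      exact absurd this ((mul_le_mul' hb1 le_rfl).trans_lt (by rw [one_mul]; exact hQ')).ne
    rw [Polynomial.eq_C_of_natDegree_eq_zero hs'd, Polynomial.aeval_C] at hbe hne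
    have hbp : b = Polynomial.aeval a (Polynomial.C (s'.coeff 0)⁻¹ * r') := by
      rw [map_mul, Polynomial.aeval_C, map_inv₀, ← hbe]
      field_simp
    set p := Polynomial.C (s'.coeff 0)⁻¹ * r'
    have hp0 : p ≠ 0 := fun h => hb0 (by rw [hbp, h, map_zero])
    obtain ⟨Q, hQ⟩ : ∃ Q : Place k F, 1 < Q.1 a := by
      by_contra! h
      have h1 : zeroDiv (k := k) a⁻¹ ≤ 0 := fun Q => by
        rw [poles_apply hF, Finsupp.zero_apply]
        have h' := h Q
        rw [val_le_one_iff] at h'
        omega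
      have h2 := deg_mono h1
      rw [hpole, hAd] at h2
      simp [Divisor.deg] at h2
    have hpd : p.natDegree ≤ 1 := by
      have ha0 : a ≠ 0 := fun h => hat (h ▸ isAlgebraic_zero)
      have h1 := hb Q
      rw [hbp, val_aeval_of_one_lt Q hQ _ p rfl hp0, val_eq_exp_ord Q ha0, ← exp_nsmul, exp_le_exp,
        ← hpole, poles_apply hF, nsmul_eq_mul] at h1
      have h2 : Q.ord a < 0 := by
        rw [val_eq_exp_ord Q ha0, ← exp_zero, exp_lt_exp] at hQ; omega
      rw [max_eq_left (by omega)] at h1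
      by_contra hh
      have : (2 : ℤ) ≤ p.natDegree := by omega
      nlinarith
    rw [hbp, Polynomial.eq_X_add_C_of_natDegree_le_one hpd, map_add, map_mul, Polynomial.aeval_C,
      Polynomial.aeval_C, Polynomial.aeval_X, ← Algebra.smul_def, Algebra.algebraMap_eq_smul_one]
    exact add_mem (Submodule.smul_mem _ _ (Submodule.subset_span ⟨1, rfl⟩))
      (Submodule.smul_mem _ _ (Submodule.subset_span ⟨0, rfl⟩))
  haveI : FiniteDimensional k (Submodule.span k (Set.range ![(1 : F), a])) :=
    FiniteDimensional.span_of_finite k (Set.finite_range _)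
  have h3 := Submodule.finrank_mono hspan
  have h4 := finrank_range_le_card (R := k) ![(1 : F), a]
  rw [Fintype.card_fin] at h4
  change ell A ≤ _ at h3
  rw [Set.finrank] at h4
  omega

end rat

section main

lemma finrank_fieldRange {k K F : Type*} [Field k] [Field K] [Algebra k K] [Field F] [Algebra k F] [Algebra F K]
    [IsScalarTower k F K] :
    Module.finrank (IsScalarTower.toAlgHom k F K).fieldRange K = Module.finrank F K :=
  (Algebra.finrank_eq_of_equiv_equiv
    (AlgEquiv.ofInjectiveField (IsScalarTower.toAlgHom k F K)).toRingEquiv (RingEquiv.refl K) rfl).symm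

variable {k K : Type*} [Field k] [Field K] [Algebra k K] (hK : IsFunctionField k K)
  {F₁ F₂ : Type*} [Field F₁] [Field F₂] [Algebra k F₁] [Algebra k F₂]
  [Algebra F₁ K] [Algebra F₂ K] [IsScalarTower k F₁ K] [IsScalarTower k F₂ K]
  (hF₁ : IsFunctionField k F₁) (hF₂ : IsFunctionField k F₂)
  [FiniteDimensional F₁ K] [FiniteDimensional F₂ K]

omit [Algebra F₂ K] [IsScalarTower k F₂ K] [FiniteDimensional F₂ K] in
include hF₁ in
lemma mem_L_conorm {D : Divisor k F₁} {z : F₁} (hz : z ∈ L D) :
    algebraMap F₁ K z ∈ L (conorm K D) := fun R => by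
  obtain ⟨Q, hQ⟩ := exists_below (K := F₁) hF₁.1 R
  rw [conorm_apply hF₁.1 D hQ, isOverWith_ramIdx hQ z]
  refine (pow_le_pow_left₀ zero_le (hz Q) _).trans_eq ?_
  rw [← exp_nsmul, nsmul_eq_mul]

lemma mul_mem_L {D E : Divisor k K} {x y : K} (hx : x ∈ L D) (hy : y ∈ L E) : x * y ∈ L (D + E) :=
  fun R => by
    rw [map_mul, Finsupp.add_apply, exp_add]
    exact mul_le_mul' (hx R) (hy R)

include hK hF₁ hF₂

/-- A rational subfield of index two lies in every genus zero one. -/
lemma range_le_of_rational (hg : 2 ≤ genus k K) (hg₁ : genus k F₁ = 0)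
    (h₁ : Module.finrank F₁ K = 2) (h₂ : Module.finrank F₂ K = 2)
    {a : F₂} (ha : Transcendental k a) (hgen : Module.finrank k⟮a⟯ F₂ = 1) :
    algebraMap F₂ K a ∈ Set.range (algebraMap F₁ K) := by
  classical
  by_contra hmem
  obtain ⟨A, hA0, hAd, hAl⟩ := exists_two hF₁ hg₁
  set c := algebraMap F₂ K a
  set D := zeroDiv (k := k) c⁻¹ with hD
  have hDd : D.deg = 2 := by
    have h := deg_conorm (K' := K) hF₂ (zeroDiv (k := k) a⁻¹)
    rw [deg_poles hF₂ ha, hgen, h₂] at h
    rw [hD, deg_poles hK (transcendental_algebraMap ha), finrank_adjoin_algebraMap a, hgen, h₂]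
    rfl
  set m := genus k K with hm
  set DA := (m : ℤ) • A with hDA
  have hDAd : DA.deg = 2 * m := by rw [hDA, deg_smul_nat hF₁, hAd]; ring
  have hDAl : (ell DA : ℤ) = 2 * m + 1 := by
    rw [ell_eq_of_deg_ge hF₁ (by rw [hDAd, hg₁]; omega), hDAd, hg₁]; ring
  set T := conorm K DA + D
  have hTd : T.deg = 4 * m + 2 := by
    rw [deg_add, deg_conorm hF₁, h₁, hDAd, hDd]; push_cast; ring
  have hTl := ell_eq_of_deg_ge hK (D := T) (by rw [hTd]; omega)
  rw [hTd] at hTl
  have hc : c ∈ L D := fun R => val_le_exp_poles hK c R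
  have hcon : 0 ≤ D := fun R => by
    show (0 : ℤ) ≤ D R
    rw [hD, poles_apply hK]; omega
  have h1D : ∀ p : L DA, algebraMap F₁ K p ∈ L T := fun p => fun R =>
    (mem_L_conorm hF₁ p.2 R).trans (exp_le_exp.2 (by
      have h : (0 : ℤ) ≤ D R := hcon R
      simp only [T, Finsupp.add_apply]; omega))
  haveI := finiteDimensional_L hK.1 T
  haveI := finiteDimensional_L hF₁.1 DA
  let i : F₁ →ₗ[k] K := (IsScalarTower.toAlgHom k F₁ K).toLinearMap
  let Φ : (L DA × L DA) →ₗ[k] L T :=
    ((i.comp (L DA).subtype).coprod ((LinearMap.mulRight k c).comp (i.comp (L DA).subtype))).codRestrict _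
      fun pq => Submodule.add_mem _ (h1D pq.1) (mul_mem_L (mem_L_conorm hF₁ pq.2.2) hc)
  have hinj : Function.Injective Φ := by
    rw [injective_iff_map_eq_zero]
    rintro ⟨p, q⟩ h
    have h' : algebraMap F₁ K p + algebraMap F₁ K q * c = 0 := congrArg Subtype.val h
    by_cases hq : (q : F₁) = 0
    · rw [hq, map_zero, zero_mul, add_zero, map_eq_zero] at h'
      exact Prod.ext (Subtype.ext h') (Subtype.ext hq)
    · exfalso
      refine hmem ⟨-p / q, ?_⟩
      rw [map_div₀, map_neg, div_eq_iff ((map_ne_zero _).2 hq)]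
      linear_combination -h'
  have := LinearMap.finrank_le_finrank_of_injective hinj
  rw [Module.finrank_prod] at this
  change ell DA + ell DA ≤ ell T at this
  omega

/-- Two subfields of index two and genus zero coincide. -/
theorem range_eq_of_genus_zero (hg : 2 ≤ genus k K) (hg₁ : genus k F₁ = 0) (hg₂ : genus k F₂ = 0)
    (h₁ : Module.finrank F₁ K = 2) (h₂ : Module.finrank F₂ K = 2) :
    Set.range (algebraMap F₁ K) = Set.range (algebraMap F₂ K) := by
  classical
  let S₁ := (IsScalarTower.toAlgHom k F₁ K).fieldRange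
  let S₂ := (IsScalarTower.toAlgHom k F₂ K).fieldRange
  have hd₁ : Module.finrank S₁ K = 2 := (finrank_fieldRange (k := k) (F := F₁)).trans h₁
  have hd₂ : Module.finrank S₂ K = 2 := (finrank_fieldRange (k := k) (F := F₂)).trans h₂
  haveI : FiniteDimensional S₁ K := Module.finite_of_finrank_pos (by omega)
  haveI : FiniteDimensional S₂ K := Module.finite_of_finrank_pos (by omega)
  suffices h : S₁ ≤ S₂ ∨ S₂ ≤ S₁ by
    have e : S₁ = S₂ := by
      rcases h with h | h
      · exact eq_of_le_of_finrank_eq' h (hd₁.trans hd₂.symm)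
      · exact (eq_of_le_of_finrank_eq' h (hd₂.trans hd₁.symm)).symm
    exact congrArg (fun S : IntermediateField k K => (S : Set K)) e
  -- a rational generator
  by_cases hr₂ : ∃ a : F₂, Transcendental k a ∧ Module.finrank k⟮a⟯ F₂ = 1
  · obtain ⟨a, ha, hgen⟩ := hr₂
    refine Or.inr ?_
    have htop : k⟮a⟯ = ⊤ := by
      haveI := finite_adjoin hF₂.1 ha
      exact IntermediateField.eq_of_le_of_finrank_eq' le_top (by rw [hgen, IntermediateField.finrank_top])
    rintro _ ⟨z, rfl⟩
    have hz : z ∈ k⟮a⟯ := htop ▸ mem_top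
    have hle : k⟮a⟯.map (IsScalarTower.toAlgHom k F₂ K) ≤ S₁ := by
      rw [adjoin_map, Set.image_singleton, adjoin_simple_le_iff]
      exact range_le_of_rational hK hF₁ hF₂ hg hg₁ h₁ h₂ ha hgen
    exact hle ⟨z, hz, rfl⟩
  by_cases hr₁ : ∃ a : F₁, Transcendental k a ∧ Module.finrank k⟮a⟯ F₁ = 1
  · obtain ⟨a, ha, hgen⟩ := hr₁
    refine Or.inl ?_
    have htop : k⟮a⟯ = ⊤ := by
      haveI := finite_adjoin hF₁.1 ha
      exact IntermediateField.eq_of_le_of_finrank_eq' le_top (by rw [hgen, IntermediateField.finrank_top])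
    rintro _ ⟨z, rfl⟩
    have hz : z ∈ k⟮a⟯ := htop ▸ mem_top
    have hle : k⟮a⟯.map (IsScalarTower.toAlgHom k F₁ K) ≤ S₂ := by
      rw [adjoin_map, Set.image_singleton, adjoin_simple_le_iff]
      exact range_le_of_rational hK hF₂ hF₁ hg hg₂ h₂ h₁ ha hgen
    exact hle ⟨z, hz, rfl⟩
  push Not at hr₁ hr₂
  refine Or.inr ?_
  by_contra hnle
  -- a space of three functions on `F₂` not inside `S₁`
  have hT : S₁.comap (IsScalarTower.toAlgHom k F₂ K) ≠ ⊤ := fun h => hnle (by
    rintro _ ⟨z, rfl⟩
    exact (h ▸ mem_top : z ∈ S₁.comap (IsScalarTower.toAlgHom k F₂ K)))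
  obtain ⟨A₂, hA₂, hA₂d, hA₂l⟩ := exists_two hF₂ hg₂
  obtain ⟨a, ha, haS⟩ := exists_notMem hF₂ hg₂ hT hr₂ hA₂ hA₂d hA₂l
  haveI := finiteDimensional_L hF₂.1 A₂
  have ha1 : LinearIndependent k ![(1 : F₂), a] := by
    rw [LinearIndependent.pair_iff' one_ne_zero]
    intro t ht
    refine haS ?_
    rw [← ht]
    exact IntermediateField.smul_mem _ (one_mem _)
  obtain ⟨b, hb, hb'⟩ : ∃ b ∈ L A₂, b ∉ Submodule.span k (Set.range ![(1 : F₂), a]) := by
    by_contra! h
    haveI : FiniteDimensional k (Submodule.span k (Set.range ![(1 : F₂), a])) :=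
      FiniteDimensional.span_of_finite k (Set.finite_range _)
    have h3 := Submodule.finrank_mono (show L A₂ ≤ Submodule.span k (Set.range ![(1 : F₂), a]) from h)
    rw [finrank_span_eq_card ha1, Fintype.card_fin] at h3
    change ell A₂ ≤ 2 at h3
    omega
  set a' := algebraMap F₂ K a
  set b' := algebraMap F₂ K b
  have ha'S : a' ∉ S₁ := haS
  have hli : LinearIndependent F₁ ![(1 : K), a'] := by
    rw [LinearIndependent.pair_iff' one_ne_zero]
    intro t ht
    refine ha'S ⟨t, ?_⟩
    rw [← ht, Algebra.smul_def, mul_one]; rfl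
  have hspan : Submodule.span F₁ (Set.range ![(1 : K), a']) = ⊤ :=
    Submodule.eq_top_of_finrank_eq (by rw [finrank_span_eq_card hli, Fintype.card_fin, h₁])
  obtain ⟨w, hw⟩ := (Submodule.mem_span_range_iff_exists_fun F₁).1 (hspan.ge (Submodule.mem_top (x := b')))
  simp only [Fin.sum_univ_two, Matrix.cons_val_zero, Matrix.cons_val_one, Algebra.smul_def, mul_one] at hw
  set u := w 0
  set v := w 1
  obtain ⟨s, hs, hst⟩ : ∃ s, (s = u ∨ s = v) ∧ Transcendental k s := by
    by_contra! h
    have h0 : u ∈ Set.range (algebraMap k F₁) := hF₁.2 u (not_not.1 (h u (Or.inl rfl)))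
    have h1 : v ∈ Set.range (algebraMap k F₁) := hF₁.2 v (not_not.1 (h v (Or.inr rfl)))
    obtain ⟨u₀, hu₀⟩ := h0
    obtain ⟨v₀, hv₀⟩ := h1
    refine hb' ((Submodule.mem_span_range_iff_exists_fun k).2 ⟨![u₀, v₀], (algebraMap F₂ K).injective ?_⟩)
    simp only [Fin.sum_univ_two, Matrix.cons_val_zero, Matrix.cons_val_one, Algebra.smul_def, mul_one, map_add,
      map_mul, ← IsScalarTower.algebraMap_apply k F₂ K]
    rw [IsScalarTower.algebraMap_apply k F₁ K, IsScalarTower.algebraMap_apply k F₁ K, hu₀, hv₀]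
    exact hw
  set E := zeroDiv (k := k) s⁻¹ with hE
  have hEd : 2 ≤ E.deg := by
    have := two_le_index hF₁ hr₁ hst
    rw [hE, deg_poles hF₁ hst]; omega
  obtain ⟨A, hA0, hAd, hAl⟩ := exists_two hF₁ hg₁
  set m := genus k K + E.deg.toNat with hm
  set DA := (m : ℤ) • A with hDA
  have hDAd : DA.deg = 2 * m := by rw [hDA, deg_smul_nat hF₁, hAd]; ring
  have hDAl : (ell DA : ℤ) = 2 * m + 1 := by
    rw [ell_eq_of_deg_ge hF₁ (by rw [hDAd, hg₁]; omega), hDAd, hg₁]; ring
  have hDEl : (ell (DA - E) : ℤ) = 2 * m - E.deg + 1 := by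
    rw [ell_eq_of_deg_ge hF₁ (by rw [deg_sub, hDAd, hg₁]; omega), deg_sub, hDAd, hg₁]; ring
  set T := conorm K DA + conorm K A₂
  have hTd : T.deg = 4 * m + 4 := by
    rw [deg_add, deg_conorm hF₁, deg_conorm hF₂, h₁, h₂, hDAd, hA₂d]; push_cast; ring
  have hTl := ell_eq_of_deg_ge hK (D := T) (by rw [hTd]; omega)
  rw [hTd] at hTl
  have h1A : (1 : F₂) ∈ L A₂ := one_mem_L hF₂ hA₂
  haveI := finiteDimensional_L hK.1 T
  haveI := finiteDimensional_L hF₁.1 DA
  haveI := finiteDimensional_L hF₁.1 (DA - E)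
  let i : L DA →ₗ[k] K := (IsScalarTower.toAlgHom k F₁ K).toLinearMap.comp (L DA).subtype
  have hmem : ∀ (p : L DA) (x : F₂), x ∈ L A₂ → algebraMap F₁ K p * algebraMap F₂ K x ∈ L T := fun p x hx =>
    mul_mem_L (mem_L_conorm hF₁ p.2) (mem_L_conorm hF₂ hx)
  let Φ : (L DA × L DA × L DA) →ₗ[k] L T :=
    (i.coprod (((LinearMap.mulRight k a').comp i).coprod ((LinearMap.mulRight k b').comp i))).codRestrict _
      fun x => Submodule.add_mem _ (by simpa [i] using hmem x.1 1 h1A)
        (Submodule.add_mem _ (hmem x.2.1 a ha) (hmem x.2.2 b hb))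
  have hsol : ∀ x : LinearMap.ker Φ, (x.1.1 : F₁) + x.1.2.2 * u = 0 ∧ (x.1.2.1 : F₁) + x.1.2.2 * v = 0 := by
    rintro ⟨⟨p, q, r⟩, hx⟩
    have h' : algebraMap F₁ K p + (algebraMap F₁ K q * a' + algebraMap F₁ K r * b') = 0 :=
      congrArg Subtype.val (LinearMap.mem_ker.1 hx)
    rw [← hw] at h'
    have h := (LinearIndependent.pair_iff.1 hli) ((p : F₁) + r * u) ((q : F₁) + r * v) (by
      simp only [Algebra.smul_def, map_add, map_mul, mul_one]
      linear_combination h')
    exact h
  have hr : ∀ x : LinearMap.ker Φ, (x.1.2.2 : F₁) ∈ L (DA - E) := by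
    intro x Q
    rw [Finsupp.sub_apply, hE, poles_apply hF₁]
    by_cases hQ : -Q.ord s ≤ 0
    · rw [max_eq_right hQ, sub_zero]; exact x.1.2.2.2 Q
    rw [max_eq_left (by omega)]
    obtain ⟨hu, hv⟩ := hsol x
    have hsr : Q.1 ((x.1.2.2 : F₁) * s) ≤ exp (DA Q) := by
      rcases hs with rfl | rfl
      · rw [show (x.1.2.2 : F₁) * u = -(x.1.1 : F₁) by linear_combination hu, Valuation.map_neg]
        exact x.1.1.2 Q
      · rw [show (x.1.2.2 : F₁) * v = -(x.1.2.1 : F₁) by linear_combination hv, Valuation.map_neg]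
        exact x.1.2.1.2 Q
    have hs0 : s ≠ 0 := fun h => hst (h ▸ isAlgebraic_zero)
    rw [map_mul, val_eq_exp_ord Q hs0] at hsr
    rcases eq_or_ne (x.1.2.2 : F₁) 0 with h0 | h0
    · rw [h0, map_zero]; exact zero_le
    rw [val_eq_exp_ord Q h0, ← exp_add, exp_le_exp] at hsr
    rw [val_eq_exp_ord Q h0, exp_le_exp]
    omega
  let Ψ : LinearMap.ker Φ →ₗ[k] L (DA - E) :=
    ((L DA).subtype.comp ((LinearMap.snd k (L DA) (L DA)).comp
      ((LinearMap.snd k (L DA) (L DA × L DA)).comp (LinearMap.ker Φ).subtype))).codRestrict _ hr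
  have hΨ : Function.Injective Ψ := by
    rw [injective_iff_map_eq_zero]
    intro x h
    have h0 : (x.1.2.2 : F₁) = 0 := congrArg Subtype.val h
    obtain ⟨hu, hv⟩ := hsol x
    rw [h0, zero_mul, add_zero] at hu hv
    exact Subtype.ext (Prod.ext (Subtype.ext hu) (Prod.ext (Subtype.ext hv) (Subtype.ext h0)))
  have hk := LinearMap.finrank_le_finrank_of_injective hΨ
  have hrk := Φ.finrank_range_add_finrank_ker
  have hle := (LinearMap.range Φ).finrank_le
  rw [Module.finrank_prod, Module.finrank_prod] at hrk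
  change _ = ell DA + (ell DA + ell DA) at hrk
  change _ ≤ ell (DA - E) at hk
  change _ ≤ ell T at hle
  omega

end main

end Groth.Agent.FFTwoSub
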